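import Groth.Agent.ZarDescLib.Transfer
import Groth.Agent.DescLib.RefineFF

/-!
# Zariski refinement induces an equivalence of descent data
-/

set_option autoImplicit false
set_option linter.style.haveILetI false
set_option backward.isDefEq.respectTransparency false
set_option backward.isDefEq.respectTransparency.types false

universe u

open CategoryTheory CategoryTheory.Limits AlgebraicGeometry TopologicalSpace

namespace ZarDescLib

open Desc

variable {ι κ : Type u} {S : Scheme.{u}} {U : ι → Scheme.{u}} {V : κ → Scheme.{u}}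
  {u' : ∀ i, U i ⟶ S} {v : ∀ j, V j ⟶ S}

theorem isIso_of_components {f : ∀ i, U i ⟶ S} {D D' : SchDDFam f} (θ : D ⟶ D') (h : ∀ i, IsIso (θ.hom i)) :
    IsIso θ := by
  haveI := h
  refine ⟨⟨fun i => inv (θ.hom i), fun T i k x₀ x₁ e p q hq => ?_⟩, ?_, ?_⟩
  · have h' := θ.comm x₀ x₁ e q p (by
      rw [hq, Category.assoc, ← Over.comp_left, IsIso.inv_hom_id, Over.id_left, Category.comp_id])
    rw [h', Category.assoc, ← Over.comp_left, IsIso.hom_inv_id, Over.id_left, Category.comp_id]
  · ext1; funext i; exact IsIso.hom_inv_id (θ.hom i)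
  · ext1; funext i; exact IsIso.inv_hom_id (θ.hom i)

variable {α : ι → κ} {g : ∀ i, U i ⟶ V (α i)} (hw : ∀ i, g i ≫ v (α i) = u' i ≫ 𝟙 S)
  (hcov : ∀ j, Presieve.ofArrows (fun i : {i // α i = j} => U i.1)
      (fun i => g i.1 ≫ eqToHom (congrArg V i.2)) ∈ Scheme.zariskiPrecoverage (V j))

/-- The pieces of the members of the coarser family. -/
noncomputable def fibrePiece (j : κ) : Piece u' (V j) where
  J := {i // α i = j}
  idx a := a.1
  g a := g a.1 ≫ eqToHom (congrArg V a.2)
  w := v j
  hg := fun a => by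
    obtain ⟨i, rfl⟩ := a
    rw [eqToHom_refl, Category.comp_id, hw, Category.comp_id]
  isOpen a := ((Scheme.ofArrows_mem_precoverage_iff _).1 (hcov j)).2 a
  covers z := ((Scheme.ofArrows_mem_precoverage_iff _).1 (hcov j)).1 z

set_option maxHeartbeats 800000 in
theorem exists_iso_pull (E : SchDDFam u') :
    Nonempty (E ≅ (pullDDFam hw).obj (gluedDD (fibrePiece hw hcov) E v fun _ => rfl)) := by
  let P := fibrePiece hw hcov
  let a : ∀ i, (P (α i)).J := fun i => ⟨i, rfl⟩
  have hga : ∀ i, (P (α i)).g (a i) = g i := fun i => Category.comp_id (g i)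
  have sq : ∀ i, IsPullback (chart (P (α i)) E (a i)) (E.obj i).hom (gluedOver (P (α i)) E).hom (g i) := fun i => by
    have := (isPullback_chart (P (α i)) E (a i)).flip
    rw [hga] at this
    exact this
  let θ : E ⟶ (pullDDFam hw).obj (gluedDD P E v fun _ => rfl) :=
    ⟨fun i => Over.homMk (sq i).isoPullback.hom ((sq i).isoPullback_hom_snd), fun T i k x₀ x₁ h p q hq => by
      change q.1 = p.1 ≫ (sq i).isoPullback.hom at hq
      refine pullback.hom_ext ?_ ?_
      · simp only [Category.assoc]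
        refine Eq.trans ?_ (congrArg ((E.φ x₀ x₁ h p).1 ≫ ·) (sq k).isoPullback_hom_fst).symm
        refine (pullback.lift_fst _ _ _).trans ?_
        let q' : Lifts (gluedOver (P (α i)) E) (x₀ ≫ g i) :=
          ⟨q.1 ≫ pullback.fst _ _, (liftsPullbackEquiv (gluedOver (P (α i)) E) (g i) x₀ q).2⟩
        have hq' : q'.1 = p.1 ≫ chart (P (α i)) E (a i) := by
          change q.1 ≫ pullback.fst _ _ = _
          rw [hq, Category.assoc]
          exact congrArg (p.1 ≫ ·) (sq i).isoPullback_hom_fst
        change (gluedφ P E (x₀ ≫ g i) (x₁ ≫ g k) (pull_compat hw x₀ x₁ h) q').1 = _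
        refine (relD_gluedφ P E _ _ _ q').eq ?_ ?_
        · refine ⟨?_, fun T' m b A c B hA hB => ?_⟩
          · rw [q'.2, Category.assoc (E.φ x₀ x₁ h p).1, (sq k).w, ← Category.assoc (E.φ x₀ x₁ h p).1,
              (E.φ x₀ x₁ h p).2]
            change (x₀ ≫ g i) ≫ v (α i) = (x₁ ≫ g k) ≫ v (α k)
            exact pull_compat hw x₀ x₁ h
          · rw [hq'] at hA
            have r₁ : Rel E A (m ≫ p.1) :=
              rel_of_chart_eq (a := b) (b := a i) (P (α i)) E A (m ≫ p.1) (hA.trans (Category.assoc _ _ _).symm)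
            have r₂ : Rel E (m ≫ (E.φ x₀ x₁ h p).1) B :=
              rel_of_chart_eq (a := a k) (b := c) (P (α k)) E (m ≫ (E.φ x₀ x₁ h p).1) B
                ((Category.assoc _ _ _).trans hB.symm)
            exact (r₁.trans ((rel_φ h p).comp m)).trans r₂
        · rw [(gluedφ P E _ _ _ q').2, Category.assoc, (sq k).w, ← Category.assoc, (E.φ x₀ x₁ h p).2]
      · simp only [Category.assoc]
        refine Eq.trans ?_ (congrArg ((E.φ x₀ x₁ h p).1 ≫ ·) (sq k).isoPullback_hom_snd).symm
        exact (pullback.lift_snd _ _ _).trans (E.φ x₀ x₁ h p).2.symm⟩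
  haveI : IsIso θ := isIso_of_components θ fun i => by
    haveI : IsIso ((Over.forget _).map (θ.hom i)) := inferInstanceAs (IsIso (sq i).isoPullback.hom)
    exact isIso_of_reflects_iso _ (Over.forget _)
  exact ⟨asIso θ⟩

include hcov in
theorem isEquivalence : (pullDDFam hw).IsEquivalence := by
  obtain ⟨hfull, hfaith⟩ := DescLib.RefineFF.full_faithful u' v hw fun j =>
    DescLib.RefineFF.sieve_mem_of_fibre_cover u' v hw j
      (Scheme.fppfPrecoverage_le_fpqcPrecoverage _ (Scheme.zariskiPrecoverage_le_fppfPrecoverage _ (hcov j)))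
  haveI := hfull
  haveI := hfaith
  haveI : (pullDDFam hw).EssSurj := ⟨fun E => by
    obtain ⟨e⟩ := exists_iso_pull hw hcov E
    exact ⟨_, ⟨e.symm⟩⟩⟩
  exact { }

end ZarDescLib
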