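import Groth.Agent.ZarDescLib.Rel

/-!
# Gluing the members of a descent datum lying over an open cover of a scheme
-/

set_option autoImplicit false
set_option linter.style.haveILetI false
set_option backward.isDefEq.respectTransparency false
set_option backward.isDefEq.respectTransparency.types false

universe u

open CategoryTheory CategoryTheory.Limits AlgebraicGeometry TopologicalSpace

namespace ZarDescLib

open Desc

variable {ι : Type u} {S V : Scheme.{u}} {U : ι → Scheme.{u}} {u' : ∀ i, U i ⟶ S}

/-- An open cover of `V` over `S` by members of the family. -/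
structure Piece (u' : ∀ i, U i ⟶ S) (V : Scheme.{u}) where
  /-- the index set -/
  J : Type u
  /-- the member used -/
  idx : J → ι
  /-- the inclusion -/
  g : ∀ a, U (idx a) ⟶ V
  /-- the structure map -/
  w : V ⟶ S
  hg : ∀ a, g a ≫ w = u' (idx a)
  isOpen : ∀ a, IsOpenImmersion (g a)
  covers : ∀ z : V, ∃ a y, g a y = z

attribute [instance] Piece.isOpen

variable (P : Piece u' V) (E : SchDDFam u')

/-- The scheme over the member `a`. -/
abbrev piece (a : P.J) : Scheme.{u} := (E.obj (P.idx a)).left

/-- The map of the scheme over the member `a` to `V`. -/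
abbrev toBase (a : P.J) : piece P E a ⟶ V := (E.obj (P.idx a)).hom ≫ P.g a

theorem compat_base {T : Scheme.{u}} {a b : P.J} {x : T ⟶ U (P.idx a)} {y : T ⟶ U (P.idx b)}
    (h : x ≫ P.g a = y ≫ P.g b) : x ≫ u' (P.idx a) = y ≫ u' (P.idx b) := by
  rw [← P.hg a, ← P.hg b, ← Category.assoc, h, Category.assoc]

/-- The overlap. -/
noncomputable abbrev ovl (a b : P.J) : Scheme.{u} := pullback (toBase P E a) (P.g b)

theorem exists_trans (a b : P.J) : ∃ q : ovl P E a b ⟶ piece P E b,
    q ≫ (E.obj (P.idx b)).hom = pullback.snd _ _ ∧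
      Rel E (pullback.fst (toBase P E a) (P.g b)) q :=
  exists_rel _ _ (compat_base P (by rw [Category.assoc]; exact pullback.condition))

/-- The transition to the other member. -/
noncomputable def trPt (a b : P.J) : ovl P E a b ⟶ piece P E b := (exists_trans P E a b).choose

theorem trPt_hom (a b : P.J) : trPt P E a b ≫ (E.obj (P.idx b)).hom = pullback.snd _ _ :=
  (exists_trans P E a b).choose_spec.1

theorem rel_trPt (a b : P.J) : Rel E (pullback.fst (toBase P E a) (P.g b)) (trPt P E a b) :=
  (exists_trans P E a b).choose_spec.2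

/-- The transition map. -/
noncomputable def tr (a b : P.J) : ovl P E a b ⟶ ovl P E b a :=
  pullback.lift (trPt P E a b) (pullback.fst _ _ ≫ (E.obj (P.idx a)).hom) (by
    rw [← Category.assoc, trPt_hom, Category.assoc]
    exact (pullback.condition (f := toBase P E a) (g := P.g b)).symm)

@[reassoc]
theorem tr_fst (a b : P.J) : tr P E a b ≫ pullback.fst _ _ = trPt P E a b := pullback.lift_fst _ _ _

@[reassoc]
theorem tr_snd (a b : P.J) :
    tr P E a b ≫ pullback.snd _ _ = pullback.fst _ _ ≫ (E.obj (P.idx a)).hom := pullback.lift_snd _ _ _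

/-- Triple transition. -/
noncomputable def tr' (a b c : P.J) :
    pullback (pullback.fst (toBase P E a) (P.g b)) (pullback.fst (toBase P E a) (P.g c)) ⟶
      pullback (pullback.fst (toBase P E b) (P.g c)) (pullback.fst (toBase P E b) (P.g a)) :=
  pullback.lift
    (pullback.lift (pullback.fst _ _ ≫ trPt P E a b) (pullback.snd _ _ ≫ pullback.snd _ _) (by
      simp only [Category.assoc]
      rw [reassoc_of% (trPt_hom P E a b), ← pullback.condition, ← pullback.condition, pullback.condition_assoc]))
    (pullback.fst _ _ ≫ tr P E a b) (by rw [pullback.lift_fst, Category.assoc, tr_fst])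

/-- The gluing datum. -/
noncomputable def glueData : Scheme.GlueData.{u} where
  J := P.J
  U := piece P E
  V x := ovl P E x.1 x.2
  f a b := pullback.fst _ _
  f_mono a b := inferInstanceAs (Mono (pullback.fst _ _))
  f_hasPullback a b c := inferInstance
  f_id a := by
    refine ⟨pullback.lift (𝟙 _) (E.obj (P.idx a)).hom (Category.id_comp _), ?_, pullback.lift_fst _ _ _⟩
    apply pullback.hom_ext
    · rw [Category.assoc, pullback.lift_fst, Category.comp_id, Category.id_comp]
    · rw [Category.assoc, pullback.lift_snd, Category.id_comp, ← cancel_mono (P.g a), Category.assoc]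
      exact pullback.condition
  t := tr P E
  t_id a := by
    have e : pullback.snd (toBase P E a) (P.g a) = pullback.fst _ _ ≫ (E.obj (P.idx a)).hom := by
      rw [← cancel_mono (P.g a), Category.assoc]
      exact pullback.condition.symm
    apply pullback.hom_ext
    · rw [tr_fst, Category.id_comp]
      exact (rel_trPt P E a a).eq (rel_self _) (by rw [trPt_hom, e])
    · rw [tr_snd, Category.id_comp, e]
  t' := tr' P E
  t_fac a b c := pullback.lift_snd _ _ _
  cocycle a b c := by
    have key : ∀ x y z : P.J,
        Rel E (pullback.fst (pullback.fst (toBase P E x) (P.g y)) (pullback.fst _ (P.g z)) ≫ pullback.fst _ _)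
          (tr' P E x y z ≫ pullback.fst _ _ ≫ pullback.fst _ _) := fun x y z => by
      simp only [tr', pullback.lift_fst, pullback.lift_fst_assoc]
      exact (rel_trPt P E x y).comp _
    have k1 : ∀ x y z : P.J, tr' P E x y z ≫ pullback.fst _ _ ≫ pullback.snd _ _ =
        pullback.snd _ _ ≫ pullback.snd _ _ := fun x y z => by
      simp only [tr', pullback.lift_fst_assoc, pullback.lift_snd]
    have k2 : ∀ x y z : P.J, tr' P E x y z ≫ pullback.snd _ _ ≫ pullback.snd _ _ =
        pullback.fst _ _ ≫ pullback.fst _ _ ≫ (E.obj (P.idx x)).hom := fun x y z => by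
      simp only [tr', pullback.lift_snd_assoc, Category.assoc, tr_snd]
    have k3 : ∀ x y z : P.J, tr' P E x y z ≫ pullback.fst _ _ ≫ pullback.fst _ _ ≫ (E.obj (P.idx y)).hom =
        pullback.fst _ _ ≫ pullback.snd _ _ := fun x y z => by
      simp only [tr', pullback.lift_fst_assoc, Category.assoc, trPt_hom]
    have hP : (tr' P E a b c ≫ tr' P E b c a ≫ tr' P E c a b) ≫ pullback.fst _ _ ≫ pullback.fst _ _ =
        pullback.fst _ _ ≫ pullback.fst _ _ := by
      have h₂ := (key b c a).comp (tr' P E a b c)
      have h₃ := (key c a b).comp (tr' P E a b c ≫ tr' P E b c a)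
      simp only [Category.assoc] at h₂ h₃ ⊢
      refine Rel.eq (((key a b c).trans h₂).trans h₃) (rel_self _) ?_
      simp only [Category.assoc]
      rw [k3 c a b, k1 b c a, k2 a b c]
    apply pullback.hom_ext <;> apply pullback.hom_ext
    · simpa only [Category.assoc, Category.id_comp] using hP
    · simp only [Category.assoc, Category.id_comp]
      rw [k1 c a b, k2 b c a, k3 a b c]
    · simp only [Category.assoc, Category.id_comp]
      rw [← pullback.condition]
      simpa only [Category.assoc] using hP
    · simp only [Category.assoc, Category.id_comp]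
      rw [k2 c a b, k3 b c a, k1 a b c]
  f_open a b := inferInstanceAs (IsOpenImmersion (pullback.fst _ _))

/-- The glued scheme. -/
noncomputable abbrev glued : Scheme.{u} := (glueData P E).glued

/-- The chart. -/
noncomputable def chart (a : P.J) : piece P E a ⟶ glued P E := (glueData P E).ι a

instance (a : P.J) : IsOpenImmersion (chart P E a) := inferInstanceAs (IsOpenImmersion ((glueData P E).ι a))

theorem chart_covers (e : glued P E) : ∃ a x, chart P E a x = e := (glueData P E).ι_jointly_surjective e

theorem exists_proj : ∃ p : glued P E ⟶ V, ∀ a, chart P E a ≫ p = toBase P E a :=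
  ⟨Multicoequalizer.desc _ _ (fun a => toBase P E a) (fun x => by
      obtain ⟨a, b⟩ := x
      change pullback.fst _ _ ≫ toBase P E a = (tr P E a b ≫ pullback.fst _ _) ≫ toBase P E b
      rw [tr_fst, ← Category.assoc (trPt P E a b), trPt_hom]
      exact pullback.condition),
    fun a => Multicoequalizer.π_desc _ _ _ _ _⟩

/-- The glued scheme over `V`. -/
noncomputable def gluedOver : Over V := Over.mk (exists_proj P E).choose

@[reassoc]
theorem chart_proj (a : P.J) : chart P E a ≫ (gluedOver P E).hom = toBase P E a :=
  (exists_proj P E).choose_spec a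

theorem rel_of_chart_eq {T : Scheme.{u}} {a b : P.J} (A : T ⟶ piece P E a) (B : T ⟶ piece P E b)
    (h : A ≫ chart P E a = B ≫ chart P E b) : Rel E A B := by
  obtain ⟨m, h₁, h₂⟩ := PullbackCone.IsLimit.lift' ((glueData P E).vPullbackConeIsLimit a b) A B h
  replace h₁ : (show T ⟶ ovl P E a b from m) ≫ pullback.fst _ _ = A := h₁
  replace h₂ : (show T ⟶ ovl P E a b from m) ≫ tr P E a b ≫ pullback.fst _ _ = B := h₂
  rw [tr_fst] at h₂
  rw [← h₁, ← h₂]
  exact (rel_trPt P E a b).comp _

theorem chart_eq_of_rel {T : Scheme.{u}} {a b : P.J} (A : T ⟶ piece P E a) (B : T ⟶ piece P E b)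
    (h : Rel E A B) (hb : A ≫ toBase P E a = B ≫ toBase P E b) : A ≫ chart P E a = B ≫ chart P E b := by
  let m : T ⟶ ovl P E a b := pullback.lift A (B ≫ (E.obj (P.idx b)).hom) (by rw [hb, Category.assoc])
  have e : m ≫ trPt P E a b = B := by
    refine Rel.eq ?_ h (by rw [Category.assoc, trPt_hom, pullback.lift_snd])
    have := (rel_trPt P E a b).comp m
    rwa [pullback.lift_fst] at this
  have := m ≫= (glueData P E).glue_condition a b
  change m ≫ tr P E a b ≫ pullback.fst _ _ ≫ chart P E b = m ≫ pullback.fst _ _ ≫ chart P E a at this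
  rw [tr_fst_assoc, reassoc_of% e, pullback.lift_fst_assoc] at this
  exact this.symm

theorem isPullback_chart (a : P.J) :
    IsPullback (E.obj (P.idx a)).hom (chart P E a) (P.g a) (gluedOver P E).hom := by
  refine IsOpenImmersion.isPullback _ _ _ _ (chart_proj P E a) (Opens.ext (Set.ext fun e => ⟨?_, ?_⟩))
  · rintro ⟨z, hz⟩
    obtain ⟨b, x, rfl⟩ := chart_covers P E e
    rw [← Scheme.Hom.comp_apply, chart_proj] at hz
    obtain ⟨m, hm₁, -⟩ := Scheme.Pullback.exists_preimage_pullback (f := toBase P E b) (g := P.g a) x z hz.symm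
    refine ⟨trPt P E b a m, ?_⟩
    have h := congr($((glueData P E).glue_condition b a) m)
    change ((tr P E b a ≫ pullback.fst _ _ ≫ chart P E a) : _ ⟶ _) m =
      ((pullback.fst _ _ ≫ chart P E b) : _ ⟶ _) m at h
    rw [tr_fst_assoc, Scheme.Hom.comp_apply, Scheme.Hom.comp_apply, hm₁] at h
    exact h
  · rintro ⟨x, rfl⟩
    exact ⟨(E.obj (P.idx a)).hom x, by
      rw [← Scheme.Hom.comp_apply, ← Scheme.Hom.comp_apply, chart_proj]⟩

end ZarDescLib
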