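import Groth.Prelude.Def_DescFam
import Mathlib.AlgebraicGeometry.Gluing
import Mathlib.AlgebraicGeometry.Limits

/-!
# The relation given by a descent datum, and gluing of a datum over an open cover
-/

set_option autoImplicit false
set_option linter.style.haveILetI false
set_option backward.isDefEq.respectTransparency false
set_option backward.isDefEq.respectTransparency.types false

universe v u

open CategoryTheory CategoryTheory.Limits AlgebraicGeometry TopologicalSpace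

namespace ZarDescLib

open Desc

variable {ι : Type v} {S : Scheme.{u}} {U : ι → Scheme.{u}} {u' : ∀ i, U i ⟶ S} (E : SchDDFam u')

theorem φ_congr {T : Scheme.{u}} {i k : ι} {x x' : T ⟶ U i} {y y' : T ⟶ U k} (hx : x = x') (hy : y = y')
    (h : x ≫ u' i = y ≫ u' k) (h' : x' ≫ u' i = y' ≫ u' k) (v : Lifts (E.obj i) x) (v' : Lifts (E.obj i) x')
    (hv : v.1 = v'.1) : (E.φ x y h v).1 = (E.φ x' y' h' v').1 := by
  subst hx hy
  obtain rfl : v = v' := Subtype.ext hv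
  rfl

/-- Two points correspond to each other under the descent datum. -/
def Rel {T : Scheme.{u}} {i k : ι} (p : T ⟶ (E.obj i).left) (q : T ⟶ (E.obj k).left) : Prop :=
  ∃ h : (p ≫ (E.obj i).hom) ≫ u' i = (q ≫ (E.obj k).hom) ≫ u' k, (E.φ _ _ h ⟨p, rfl⟩).1 = q

variable {E}

theorem rel_φ {T : Scheme.{u}} {i k : ι} {x : T ⟶ U i} {y : T ⟶ U k} (h : x ≫ u' i = y ≫ u' k)
    (v : Lifts (E.obj i) x) : Rel E v.1 (E.φ x y h v).1 :=
  ⟨by rw [v.2, (E.φ x y h v).2]; exact h, φ_congr E v.2 (E.φ x y h v).2 _ h _ v rfl⟩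

theorem exists_rel {T : Scheme.{u}} {i k : ι} (p : T ⟶ (E.obj i).left) (y : T ⟶ U k)
    (h : (p ≫ (E.obj i).hom) ≫ u' i = y ≫ u' k) : ∃ q, q ≫ (E.obj k).hom = y ∧ Rel E p q :=
  ⟨(E.φ _ y h ⟨p, rfl⟩).1, (E.φ _ y h ⟨p, rfl⟩).2, rel_φ (E := E) h ⟨p, rfl⟩⟩

variable {T : Scheme.{u}} {i k l : ι} {p : T ⟶ (E.obj i).left} {q q' : T ⟶ (E.obj k).left}
  {r : T ⟶ (E.obj l).left}

theorem Rel.over (a : Rel E p q) : (p ≫ (E.obj i).hom) ≫ u' i = (q ≫ (E.obj k).hom) ≫ u' k := a.1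

theorem Rel.eq (a : Rel E p q) (b : Rel E p q') (e : q ≫ (E.obj k).hom = q' ≫ (E.obj k).hom) : q = q' := by
  obtain ⟨h, hq⟩ := a
  obtain ⟨h', hq'⟩ := b
  exact hq.symm.trans ((φ_congr E rfl e h h' _ _ rfl).trans hq')

theorem rel_self (p : T ⟶ (E.obj i).left) : Rel E p p :=
  ⟨rfl, congrArg Subtype.val (E.φ_self _ _)⟩

theorem Rel.trans (a : Rel E p q) (b : Rel E q r) : Rel E p r := by
  obtain ⟨h, hq⟩ := a
  obtain ⟨h', hr⟩ := b
  refine ⟨h.trans h', ?_⟩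
  rw [← E.φ_comp _ _ _ h h', show E.φ _ _ h ⟨p, rfl⟩ = ⟨q, rfl⟩ from Subtype.ext hq]
  exact hr

theorem Rel.symm (a : Rel E p q) : Rel E q p := by
  obtain ⟨h, hq⟩ := a
  refine ⟨h.symm, ?_⟩
  rw [← show E.φ _ _ h ⟨p, rfl⟩ = ⟨q, rfl⟩ from Subtype.ext hq, E.φ_comp, E.φ_self]

theorem Rel.comp (a : Rel E p q) {T' : Scheme.{u}} (m : T' ⟶ T) : Rel E (m ≫ p) (m ≫ q) := by
  obtain ⟨h, hq⟩ := a
  refine ⟨by simp only [Category.assoc] at h ⊢; rw [h], ?_⟩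
  exact (E.φ_natural m _ _ h _ _ (Category.assoc _ _ _).symm (Category.assoc _ _ _).symm _ ⟨p, rfl⟩ _
    rfl).trans (by rw [hq])

theorem rel_of_cover (𝒰 : T.OpenCover) (h : ∀ c, Rel E (𝒰.f c ≫ p) (𝒰.f c ≫ q)) : Rel E p q := by
  have e : (p ≫ (E.obj i).hom) ≫ u' i = (q ≫ (E.obj k).hom) ≫ u' k :=
    𝒰.hom_ext _ _ fun c => by simpa only [Category.assoc] using (h c).over
  obtain ⟨q₁, hq₁, r₁⟩ := exists_rel p _ e
  obtain rfl : q₁ = q := 𝒰.hom_ext _ _ fun c =>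
    (r₁.comp (𝒰.f c)).eq (h c) (by rw [Category.assoc, Category.assoc, hq₁])
  exact r₁

end ZarDescLib
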