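import Groth.Agent.ZarDescLib.Glue

/-!
# The descent datum on the glued schemes
-/

set_option autoImplicit false
set_option linter.style.haveILetI false
set_option backward.isDefEq.respectTransparency false
set_option backward.isDefEq.respectTransparency.types false

universe u

open CategoryTheory CategoryTheory.Limits AlgebraicGeometry TopologicalSpace

namespace ZarDescLib

open Desc

variable {ι κ : Type u} {S : Scheme.{u}} {U : ι → Scheme.{u}} {u' : ∀ i, U i ⟶ S} {V : κ → Scheme.{u}}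
  (P : ∀ j, Piece u' (V j)) (E : SchDDFam u')

theorem exists_cover {T : Scheme.{u}} {j j' : κ} (p : T ⟶ glued (P j) E) (x : T ⟶ V j') :
    ∃ 𝒰 : Scheme.OpenCover.{u} T, ∀ c, ∃ (a : (P j).J) (A : 𝒰.X c ⟶ piece (P j) E a) (b : (P j').J)
      (y : 𝒰.X c ⟶ U ((P j').idx b)), A ≫ chart (P j) E a = 𝒰.f c ≫ p ∧ y ≫ (P j').g b = 𝒰.f c ≫ x := by
  let O : (P j).J × (P j').J → T.Opens := fun k =>
    p ⁻¹ᵁ (chart (P j) E k.1).opensRange ⊓ x ⁻¹ᵁ ((P j').g k.2).opensRange
  refine ⟨T.openCoverOfIsOpenCover O (IsOpenCover.mk (eq_top_iff.mpr fun t _ => ?_)), fun (k : _ × _) => ?_⟩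
  · obtain ⟨a, z, hz⟩ := chart_covers (P j) E (p t)
    obtain ⟨b, y, hy⟩ := (P j').covers (x t)
    exact Opens.mem_iSup.mpr ⟨(a, b), ⟨z, hz⟩, ⟨y, hy⟩⟩
  · exact ⟨k.1, IsOpenImmersion.lift (chart (P j) E k.1) ((O k).ι ≫ p) (by rintro _ ⟨z, rfl⟩; exact z.2.1),
      k.2, IsOpenImmersion.lift ((P j').g k.2) ((O k).ι ≫ x) (by rintro _ ⟨z, rfl⟩; exact z.2.2),
      IsOpenImmersion.lift_fac _ _ _, IsOpenImmersion.lift_fac _ _ _⟩

/-- Two points of glued schemes correspond to each other. -/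
def RelD {T : Scheme.{u}} {j j' : κ} (p : T ⟶ glued (P j) E) (q : T ⟶ glued (P j') E) : Prop :=
  (p ≫ (gluedOver (P j) E).hom) ≫ (P j).w = (q ≫ (gluedOver (P j') E).hom) ≫ (P j').w ∧
    ∀ (T' : Scheme.{u}) (k : T' ⟶ T) (a : (P j).J) (A : T' ⟶ piece (P j) E a) (b : (P j').J)
      (B : T' ⟶ piece (P j') E b), A ≫ chart (P j) E a = k ≫ p → B ≫ chart (P j') E b = k ≫ q → Rel E A B

variable {P E} {T : Scheme.{u}} {j j' j'' : κ} {p : T ⟶ glued (P j) E} {q q' : T ⟶ glued (P j') E}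
  {r : T ⟶ glued (P j'') E}

theorem exists_lift_chart (q : T ⟶ glued (P j') E) {T' : Scheme.{u}} (k : T' ⟶ T) {b : (P j').J}
    (y : T' ⟶ U ((P j').idx b)) (hy : y ≫ (P j').g b = k ≫ q ≫ (gluedOver (P j') E).hom) :
    ∃ B : T' ⟶ piece (P j') E b, B ≫ chart (P j') E b = k ≫ q ∧ B ≫ (E.obj ((P j').idx b)).hom = y :=
  ⟨(isPullback_chart (P j') E b).lift y (k ≫ q) (hy.trans (Category.assoc _ _ _).symm),
    (isPullback_chart (P j') E b).lift_snd _ _ _, (isPullback_chart (P j') E b).lift_fst _ _ _⟩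

theorem RelD.symm (h : RelD P E p q) : RelD P E q p :=
  ⟨h.1.symm, fun T' k a A b B hA hB => (h.2 T' k b B a A hB hA).symm⟩

theorem relD_self (p : T ⟶ glued (P j) E) : RelD P E p p :=
  ⟨rfl, fun _ _ _ A _ B hA hB => rel_of_chart_eq (P j) E A B (hA.trans hB.symm)⟩

theorem RelD.comp (h : RelD P E p q) {T' : Scheme.{u}} (m : T' ⟶ T) : RelD P E (m ≫ p) (m ≫ q) :=
  ⟨by have := h.1; simp only [Category.assoc] at this ⊢; rw [this], fun T'' k a A b B hA hB =>
    h.2 T'' (k ≫ m) a A b B (hA.trans (Category.assoc _ _ _).symm) (hB.trans (Category.assoc _ _ _).symm)⟩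

theorem RelD.trans (h : RelD P E p q) (h' : RelD P E q r) : RelD P E p r := by
  refine ⟨h.1.trans h'.1, fun T' k a A c C hA hC => ?_⟩
  obtain ⟨𝒰, hU⟩ := exists_cover P E (k ≫ q) (k ≫ q ≫ (gluedOver (P j') E).hom)
  refine rel_of_cover 𝒰 fun s => ?_
  obtain ⟨b, B, -, -, hB, -⟩ := hU s
  exact (h.2 _ (𝒰.f s ≫ k) a _ b B (by rw [Category.assoc, hA, Category.assoc]) (by rw [hB, Category.assoc])).trans
    (h'.2 _ (𝒰.f s ≫ k) b B c _ (by rw [hB, Category.assoc]) (by rw [Category.assoc, hC, Category.assoc]))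

theorem RelD.eq (h : RelD P E p q) (h' : RelD P E p q')
    (e : q ≫ (gluedOver (P j') E).hom = q' ≫ (gluedOver (P j') E).hom) : q = q' := by
  obtain ⟨𝒰, hU⟩ := exists_cover P E p (q ≫ (gluedOver (P j') E).hom)
  refine 𝒰.hom_ext _ _ fun s => ?_
  obtain ⟨a, A, b, y, hA, hy⟩ := hU s
  obtain ⟨B, hB, hB'⟩ := exists_lift_chart q (𝒰.f s) y hy
  obtain ⟨C, hC, hC'⟩ := exists_lift_chart q' (𝒰.f s) y (by rw [hy, e])
  rw [← hB, ← hC, (h.2 _ _ a A b B hA hB).eq (h'.2 _ _ a A b C hA hC) (hB'.trans hC'.symm)]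

theorem exists_relD (p : T ⟶ glued (P j) E) (x : T ⟶ V j')
    (h : (p ≫ (gluedOver (P j) E).hom) ≫ (P j).w = x ≫ (P j').w) :
    ∃ q, q ≫ (gluedOver (P j') E).hom = x ∧ RelD P E p q := by
  obtain ⟨𝒰, hU⟩ := exists_cover P E p x
  choose a A b y hA hy using hU
  have hB : ∀ s, ∃ B : 𝒰.X s ⟶ piece (P j') E (b s), B ≫ (E.obj _).hom = y s ∧ Rel E (A s) B := fun s => by
    refine exists_rel _ _ ?_
    rw [← (P j).hg, ← (P j').hg, Category.assoc, ← Category.assoc (E.obj _).hom,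
      show (E.obj ((P j).idx (a s))).hom ≫ (P j).g (a s) = _ from (chart_proj (P j) E (a s)).symm,
      Category.assoc, reassoc_of% (hA s), ← Category.assoc (y s), hy s, Category.assoc]
    simp only [Category.assoc] at h
    rw [h]
  choose B hB hr using hB
  have hBb : ∀ s, B s ≫ toBase (P j') E (b s) = 𝒰.f s ≫ x := fun s => by
    rw [toBase, reassoc_of% (hB s), hy]
  let q : T ⟶ glued (P j') E := 𝒰.glueMorphisms (fun s => B s ≫ chart (P j') E (b s)) fun s s' => by
    simp only [← Category.assoc]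
    refine chart_eq_of_rel _ _ _ _ ?_ (by
      rw [Category.assoc, Category.assoc, hBb, hBb, pullback.condition_assoc])
    refine (((hr s).comp _).symm.trans ?_).trans ((hr s').comp _)
    exact rel_of_chart_eq _ _ _ _ (by rw [Category.assoc, Category.assoc, hA, hA, pullback.condition_assoc])
  have hq : ∀ s, 𝒰.f s ≫ q = B s ≫ chart (P j') E (b s) := fun s => 𝒰.ι_glueMorphisms _ _ s
  have hqx : q ≫ (gluedOver (P j') E).hom = x := 𝒰.hom_ext _ _ fun s => by
    rw [reassoc_of% (hq s), chart_proj]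
    exact hBb s
  refine ⟨q, hqx, h.trans (by rw [hqx]), fun T' k a' A' b' B' hA' hB' => ?_⟩
  refine rel_of_cover (𝒰.pullback₁ k) fun s => ?_
  change Rel E (pullback.fst k (𝒰.f s) ≫ A') (pullback.fst k (𝒰.f s) ≫ B')
  refine ((rel_of_chart_eq _ _ _ (pullback.snd k (𝒰.f s) ≫ A s) ?_).trans ((hr s).comp _)).trans
    (rel_of_chart_eq _ _ _ _ ?_)
  · rw [Category.assoc, Category.assoc, hA', hA, pullback.condition_assoc]
  · rw [Category.assoc, Category.assoc, ← hq, hB', pullback.condition_assoc]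

variable (P E)

theorem exists_relD_lifts {T : Scheme.{u}} {j j' : κ} (x : T ⟶ V j) (x' : T ⟶ V j')
    (h : x ≫ (P j).w = x' ≫ (P j').w) (p : Lifts (gluedOver (P j) E) x) :
    ∃ q : Lifts (gluedOver (P j') E) x', RelD P E p.1 q.1 := by
  obtain ⟨q, h₁, h₂⟩ := exists_relD (P := P) (E := E) p.1 x' (by rw [p.2, h])
  exact ⟨⟨q, h₁⟩, h₂⟩

/-- The bijection of points of glued schemes. -/
noncomputable def gluedφ {T : Scheme.{u}} {j j' : κ} (x : T ⟶ V j) (x' : T ⟶ V j')
    (h : x ≫ (P j).w = x' ≫ (P j').w) : Lifts (gluedOver (P j) E) x ≃ Lifts (gluedOver (P j') E) x' where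
  toFun p := (exists_relD_lifts P E x x' h p).choose
  invFun q := (exists_relD_lifts P E x' x h.symm q).choose
  left_inv p := Subtype.ext <| (exists_relD_lifts P E x' x h.symm _).choose_spec.eq
    (exists_relD_lifts P E x x' h p).choose_spec.symm ((exists_relD_lifts P E x' x h.symm (exists_relD_lifts P E x x' h p).choose).choose.2.trans p.2.symm)
  right_inv q := Subtype.ext <| (exists_relD_lifts P E x x' h _).choose_spec.eq
    (exists_relD_lifts P E x' x h.symm q).choose_spec.symm ((exists_relD_lifts P E x x' h (exists_relD_lifts P E x' x h.symm q).choose).choose.2.trans q.2.symm)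

theorem relD_gluedφ {T : Scheme.{u}} {j j' : κ} (x : T ⟶ V j) (x' : T ⟶ V j')
    (h : x ≫ (P j).w = x' ≫ (P j').w) (p : Lifts (gluedOver (P j) E) x) :
    RelD P E p.1 (gluedφ P E x x' h p).1 := by
  unfold gluedφ
  exact (exists_relD_lifts P E x x' h p).choose_spec

variable (v : ∀ j, V j ⟶ S) (hv : ∀ j, (P j).w = v j)

/-- The glued descent datum. -/
noncomputable def gluedDD : SchDDFam v where
  obj j := gluedOver (P j) E
  φ T j j' x x' h := gluedφ P E x x' (by rw [hv, hv]; exact h)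
  φ_natural T T' m j j' x x' h y y' hy hy' h' p p' hp := by
    have h₂ := (relD_gluedφ P E x x' (by rw [hv, hv]; exact h) p).comp m
    rw [← hp] at h₂
    refine (relD_gluedφ P E y y' (by rw [hv, hv]; exact h') p').eq h₂ ?_
    rw [(gluedφ P E y y' _ p').2, Category.assoc, (gluedφ P E x x' _ p).2, hy']
  φ_self T j x p := Subtype.ext <| (relD_gluedφ P E x x rfl p).eq (relD_self p.1)
    ((gluedφ P E x x rfl p).2.trans p.2.symm)
  φ_comp T j j' j'' x x' x'' h h' p := Subtype.ext <| RelD.eq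
    ((relD_gluedφ P E x x' (by rw [hv, hv]; exact h) p).trans (relD_gluedφ P E x' x'' (by rw [hv, hv]; exact h') _))
    (relD_gluedφ P E x x'' (by rw [hv, hv]; exact h.trans h') p)
    ((gluedφ P E x' x'' _ _).2.trans (gluedφ P E x x'' _ p).2.symm)

end ZarDescLib
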